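import Groth.Agent.Lib.IdealTransform.Basic
import Mathlib.RingTheory.Filtration

/-!
# The universal property of the ideal transform
-/

universe u

open CategoryTheory LocCoh

noncomputable section

namespace Groth.Agent.DTLib

variable {R : Type u} [CommRing R] [IsNoetherianRing R] {I : Ideal R}
variable {M : Type u} [AddCommGroup M] [Module R M]

omit [IsNoetherianRing R] in
theorem exists_pow_kills {T : Type u} [AddCommGroup T] [Module R T] [Module.Finite R T]
    (hT : LocCoh.IsPowerTorsion I T) : ∃ n, ∀ a ∈ I ^ n, ∀ t : T, a • t = 0 := by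
  classical
  obtain ⟨s, hs⟩ := Module.Finite.fg_top (R := R) (M := T)
  choose n hn using hT
  refine ⟨s.sup n, fun a ha t => ?_⟩
  have ht : t ∈ Submodule.span R (s : Set T) := hs ▸ trivial
  exact Submodule.span_induction (p := fun t _ => a • t = 0)
    (fun x hx => hn x a (Ideal.pow_le_pow_right (Finset.le_sup hx) ha)) (smul_zero a)
    (fun x y _ _ hx hy => by rw [smul_add, hx, hy, add_zero])
    (fun c x _ hx => by rw [smul_comm, hx, smul_zero]) ht

variable (I) in
/-- Maps `I ^ n → K ⧸ Γ K` lift, after shrinking, to `K`. -/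
theorem exists_lift_mod_torsion {K : Type u} [AddCommGroup K] [Module R K] {n : ℕ}
    (φ : ↥(I ^ n) →ₗ[R] K ⧸ DRing.torsionSub I K) :
    ∃ (m : ℕ) (h : n ≤ m) (ψ : ↥(I ^ m) →ₗ[R] K), ∀ a : ↥(I ^ m),
      Submodule.Quotient.mk (ψ a) = φ (Submodule.inclusion (Ideal.pow_le_pow_right h) a) := by
  classical
  let q := (DRing.torsionSub I K).mkQ
  obtain ⟨s, hs⟩ : (LinearMap.range φ).FG := by
    rw [LinearMap.range_eq_map]
    exact Module.Finite.fg_top.map φ
  choose l hl using fun x : K ⧸ DRing.torsionSub I K => Submodule.mkQ_surjective _ x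
  let L := Submodule.span R ((s.image l : Finset K) : Set K)
  have hL : ∀ y ∈ LinearMap.range φ, ∃ z ∈ L, q z = y := by
    intro y hy
    rw [← hs] at hy
    induction hy using Submodule.span_induction with
    | mem x hx => exact ⟨l x, Submodule.subset_span (Finset.mem_image_of_mem l hx), hl x⟩
    | zero => exact ⟨0, zero_mem _, map_zero _⟩
    | add x y _ _ hx hy =>
      obtain ⟨z, hz, rfl⟩ := hx
      obtain ⟨w, hw, rfl⟩ := hy
      exact ⟨z + w, add_mem hz hw, map_add _ _ _⟩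
    | smul c x _ hx =>
      obtain ⟨z, hz, rfl⟩ := hx
      exact ⟨c • z, L.smul_mem c hz, map_smul _ _ _⟩
  have : Module.Finite R L := Module.Finite.iff_fg.2 (Submodule.fg_span (Finset.finite_toSet _))
  let P : Submodule R (↥(I ^ n) × L) :=
    LinearMap.ker (φ ∘ₗ LinearMap.fst R _ _ - (q ∘ₗ L.subtype) ∘ₗ LinearMap.snd R _ _)
  have hP : ∀ z : P, q (z.1.2 : K) = φ z.1.1 := fun z => (sub_eq_zero.1 (LinearMap.mem_ker.1 z.2)).symm
  let π : P →ₗ[R] ↥(I ^ n) := LinearMap.fst R _ _ ∘ₗ P.subtype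
  have hπ : Function.Surjective π := fun a => by
    obtain ⟨z, hz, hz'⟩ := hL (φ a) ⟨a, rfl⟩
    exact ⟨⟨(a, ⟨z, hz⟩), LinearMap.mem_ker.2 (sub_eq_zero.2 hz'.symm)⟩, rfl⟩
  have hker : LocCoh.IsPowerTorsion I (LinearMap.ker π) := fun z => by
    have h1 : q ((z : P).1.2 : K) = 0 := by
      rw [hP, show (z : P).1.1 = 0 from LinearMap.mem_ker.1 z.2, map_zero]
    obtain ⟨k, hk⟩ := (Submodule.Quotient.mk_eq_zero _).1 h1
    refine ⟨k, fun a ha => ?_⟩
    refine Subtype.ext (Subtype.ext (Prod.ext ?_ (Subtype.ext (hk a ha))))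
    change a • (z : P).1.1 = 0
    rw [show (z : P).1.1 = 0 from LinearMap.mem_ker.1 z.2, smul_zero]
  obtain ⟨c, hc⟩ := exists_pow_kills hker
  obtain ⟨k, hk⟩ := Ideal.exists_pow_inf_eq_pow_smul I (LinearMap.ker π)
  let S : Submodule R P := I ^ (c + k) • ⊤
  have hle : I ^ (c + k + n) ≤ I ^ n := Ideal.pow_le_pow_right (Nat.le_add_left n (c + k))
  have hmem : ∀ z ∈ S, (π z : R) ∈ I ^ (c + k + n) := by
    intro z hz
    refine Submodule.smul_induction_on hz (fun a ha w _ => ?_) fun x y hx hy => ?_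
    · rw [map_smul, Submodule.coe_smul, smul_eq_mul, pow_add]
      exact Ideal.mul_mem_mul ha (π w).2
    · rw [map_add, Submodule.coe_add]
      exact add_mem hx hy
  let g : S →ₗ[R] ↥(I ^ (c + k + n)) :=
    LinearMap.codRestrict _ ((I ^ n).subtype ∘ₗ π ∘ₗ S.subtype) fun z => hmem z.1 z.2
  have hinj : Function.Injective g := by
    rw [injective_iff_map_eq_zero]
    intro z hz
    have h1 : π z.1 = 0 := Subtype.ext (congrArg (fun w : ↥(I ^ (c + k + n)) => (w : R)) hz :)
    have h2 : z.1 ∈ I ^ (c + k) • (⊤ : Submodule R P) ⊓ LinearMap.ker π := ⟨z.2, h1⟩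
    rw [hk (c + k) (Nat.le_add_left k c), Nat.add_sub_cancel] at h2
    have h3 : ∀ y ∈ I ^ c • (I ^ k • (⊤ : Submodule R P) ⊓ LinearMap.ker π), y = 0 := fun y hy => by
      refine Submodule.smul_induction_on hy (fun a ha w hw => ?_) fun x y hx hy => by
        rw [hx, hy, add_zero]
      exact congrArg Subtype.val (hc a ha ⟨w, hw.2⟩)
    exact Subtype.ext (h3 _ h2)
  have hsurj : Function.Surjective g := by
    intro b
    suffices H : ∀ b ∈ I ^ (c + k) * I ^ n, ∃ z ∈ S, (π z : R) = b by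
      obtain ⟨z, hz, hz'⟩ := H b.1 (by rw [← pow_add]; exact b.2)
      exact ⟨⟨z, hz⟩, Subtype.ext hz'⟩
    intro b hb
    refine Submodule.mul_induction_on hb (fun u hu v hv => ?_) ?_
    · obtain ⟨w, hw⟩ := hπ ⟨v, hv⟩
      exact ⟨u • w, Submodule.smul_mem_smul hu trivial, by rw [map_smul, hw]; rfl⟩
    · rintro x y ⟨z, hz, rfl⟩ ⟨w, hw, rfl⟩
      exact ⟨z + w, add_mem hz hw, by rw [map_add]; rfl⟩
  let e := LinearEquiv.ofBijective g ⟨hinj, hsurj⟩
  refine ⟨c + k + n, Nat.le_add_left n (c + k),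
    L.subtype ∘ₗ LinearMap.snd R _ _ ∘ₗ P.subtype ∘ₗ S.subtype ∘ₗ e.symm.toLinearMap, fun a => ?_⟩
  change q ((e.symm a).1.1.2 : K) = _
  rw [hP]
  congr 1
  exact Subtype.ext (congrArg (fun w : ↥(I ^ (c + k + n)) => (w : R)) (e.apply_symm_apply a) :)

theorem eq_of_forall_smul {x y : DT I M} {k : ℕ} (h : ∀ a ∈ I ^ k, a • x = a • y) : x = y :=
  sub_eq_zero.1 (eq_zero_of_forall_smul (k := k) fun a ha => by rw [smul_sub, h a ha, sub_self])

theorem linearMap_ext_of_torsion_coker {N P : Type u} [AddCommGroup N] [Module R N] [AddCommGroup P]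
    [Module R P] {e : N →ₗ[R] P} (hcoker : LocCoh.IsPowerTorsion I (P ⧸ LinearMap.range e))
    {f g : P →ₗ[R] DT I M} (h : f ∘ₗ e = g ∘ₗ e) : f = g := by
  refine LinearMap.ext fun x => ?_
  obtain ⟨k, hk⟩ := hcoker (Submodule.Quotient.mk x)
  refine eq_of_forall_smul (k := k) fun a ha => ?_
  have hr := hk a ha
  rw [← Submodule.Quotient.mk_smul, Submodule.Quotient.mk_eq_zero] at hr
  obtain ⟨y, hy⟩ := hr
  rw [← map_smul, ← map_smul, ← hy]
  exact LinearMap.congr_fun h y

/-- Factorisation through maps with torsion kernel and cokernel. -/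
theorem exists_factor {N P : Type u} [AddCommGroup N] [Module R N] [AddCommGroup P] [Module R P]
    (e : N →ₗ[R] P) (hker : LinearMap.ker e ≤ DRing.torsionSub I N)
    (hcoker : LocCoh.IsPowerTorsion I (P ⧸ LinearMap.range e)) (ψ : N →ₗ[R] M) :
    ∃ ψ' : P →ₗ[R] DT I M, ψ' ∘ₗ e = toDT I M ∘ₗ ψ := by
  have hkerψ : LinearMap.ker e ≤ LinearMap.ker ((DRing.torsionSub I M).mkQ ∘ₗ ψ) := fun y hy => by
    rw [LinearMap.mem_ker, LinearMap.comp_apply, Submodule.mkQ_apply, Submodule.Quotient.mk_eq_zero]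
    exact DRing.map_mem_torsionSub I ψ (hker hy)
  let ψb : LinearMap.range e →ₗ[R] M ⧸ DRing.torsionSub I M :=
    (LinearMap.ker e).liftQ _ hkerψ ∘ₗ e.quotKerEquivRange.symm.toLinearMap
  have hψb : ∀ y, ψb (e.rangeRestrict y) = Submodule.Quotient.mk (ψ y) := fun y => by
    simp only [ψb, LinearMap.comp_apply, LinearEquiv.coe_coe]
    rw [show e.quotKerEquivRange.symm (e.rangeRestrict y) = Submodule.Quotient.mk y from
      (LinearEquiv.symm_apply_eq _).2 (Subtype.ext rfl)]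
    rfl
  have key : ∀ p : P, ∃ x : DT I M, ∃ j, ∀ a ∈ I ^ j, ∀ y, e y = a • p → a • x = toDT I M (ψ y) := by
    intro p
    obtain ⟨n, hn⟩ := hcoker (Submodule.Quotient.mk p)
    have hn' : ∀ a ∈ I ^ n, a • p ∈ LinearMap.range e := fun a ha => by
      have h := hn a ha
      rwa [← Submodule.Quotient.mk_smul, Submodule.Quotient.mk_eq_zero] at h
    let act : ↥(I ^ n) →ₗ[R] LinearMap.range e :=
      LinearMap.codRestrict _ ((LinearMap.toSpanSingleton R P p) ∘ₗ (I ^ n).subtype) fun a => hn' a.1 a.2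
    obtain ⟨m, hnm, χ, hχ⟩ := exists_lift_mod_torsion I (ψb ∘ₗ act)
    refine ⟨ιD I M m χ, m, fun a ha y hy => ?_⟩
    rw [show a = ((⟨a, ha⟩ : ↥(I ^ m)) : R) from rfl, smul_ιD, ← sub_eq_zero, ← map_sub,
      toDT_eq_zero_iff, ← Submodule.Quotient.mk_eq_zero, Submodule.Quotient.mk_sub, sub_eq_zero, hχ,
      ← hψb]
    exact congrArg ψb (Subtype.ext hy.symm)
  choose x j hx using key
  have huniq : ∀ (p : P) (z : DT I M) (i : ℕ),
      (∀ a ∈ I ^ i, ∀ y, e y = a • p → a • z = toDT I M (ψ y)) → z = x p := by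
    intro p z i hz
    obtain ⟨n, hn⟩ := hcoker (Submodule.Quotient.mk p)
    refine eq_of_forall_smul (k := max n (max i (j p))) fun a ha => ?_
    have hr := hn a (Ideal.pow_le_pow_right (le_max_left _ _) ha)
    rw [← Submodule.Quotient.mk_smul, Submodule.Quotient.mk_eq_zero] at hr
    obtain ⟨y, hy⟩ := hr
    rw [hz a (Ideal.pow_le_pow_right ((le_max_left _ _).trans (le_max_right _ _)) ha) y hy,
      hx p a (Ideal.pow_le_pow_right ((le_max_right _ _).trans (le_max_right _ _)) ha) y hy]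
  have hpre : ∀ p : P, ∃ n, ∀ a ∈ I ^ n, ∃ y, e y = a • p := fun p => by
    obtain ⟨n, hn⟩ := hcoker (Submodule.Quotient.mk p)
    exact ⟨n, fun a ha => by
      have h := hn a ha
      rwa [← Submodule.Quotient.mk_smul, Submodule.Quotient.mk_eq_zero] at h⟩
  refine ⟨{ toFun := x, map_add' := fun p p' => ?_, map_smul' := fun r p => ?_ }, LinearMap.ext fun y => ?_⟩
  · refine (huniq (p + p') (x p + x p') (max (hpre p).choose (max (j p) (j p'))) fun a ha y hy => ?_).symm
    obtain ⟨y₁, hy₁⟩ := (hpre p).choose_spec a (Ideal.pow_le_pow_right (le_max_left _ _) ha)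
    rw [smul_add, hx p a (Ideal.pow_le_pow_right ((le_max_left _ _).trans (le_max_right _ _)) ha) y₁ hy₁,
      hx p' a (Ideal.pow_le_pow_right ((le_max_right _ _).trans (le_max_right _ _)) ha) (y - y₁)
        (by rw [map_sub, hy, hy₁, smul_add, add_sub_cancel_left]), ← map_add, ← map_add,
      add_sub_cancel]
  · refine (huniq (r • p) (r • x p) (max (hpre p).choose (j p)) fun a ha y hy => ?_).symm
    obtain ⟨y₁, hy₁⟩ := (hpre p).choose_spec a (Ideal.pow_le_pow_right (le_max_left _ _) ha)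
    rw [smul_comm, hx p a (Ideal.pow_le_pow_right (le_max_right _ _) ha) y₁ hy₁, ← map_smul, ← map_smul,
      ← sub_eq_zero, ← map_sub, ← map_sub, toDT_eq_zero_iff]
    refine DRing.map_mem_torsionSub I ψ (hker (LinearMap.mem_ker.2 ?_))
    rw [map_sub, map_smul, hy₁, hy, smul_comm, sub_self]
  · refine (huniq (e y) (toDT I M (ψ y)) 0 fun a _ y' hy' => ?_).symm
    rw [← map_smul, ← map_smul, ← sub_eq_zero, ← map_sub, ← map_sub, toDT_eq_zero_iff]
    refine DRing.map_mem_torsionSub I ψ (hker (LinearMap.mem_ker.2 ?_))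
    rw [map_sub, map_smul, hy', sub_self]

theorem existsUnique_factor {N P : Type u} [AddCommGroup N] [Module R N] [AddCommGroup P] [Module R P]
    (e : N →ₗ[R] P) (hker : LinearMap.ker e ≤ DRing.torsionSub I N)
    (hcoker : LocCoh.IsPowerTorsion I (P ⧸ LinearMap.range e)) (ψ : N →ₗ[R] M) :
    ∃! ψ' : P →ₗ[R] DT I M, ψ' ∘ₗ e = toDT I M ∘ₗ ψ := by
  obtain ⟨ψ', h⟩ := exists_factor e hker hcoker ψ
  exact ⟨ψ', h, fun g hg => linearMap_ext_of_torsion_coker hcoker (hg.trans h.symm)⟩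

theorem torsionSub_DT : DRing.torsionSub I (DT I M) = ⊥ := by
  rw [eq_bot_iff]
  rintro x ⟨k, hk⟩
  exact (Submodule.mem_bot R).2 (eq_zero_of_forall_smul hk)

omit [IsNoetherianRing R] in
variable (I M) in
theorem isPowerTorsion_coker_toDT :
    LocCoh.IsPowerTorsion I (DT I M ⧸ LinearMap.range (toDT I M)) := fun z => by
  obtain ⟨x, rfl⟩ := Submodule.Quotient.mk_surjective _ z
  obtain ⟨n, φ, rfl⟩ := exists_ιD x
  refine ⟨n, fun a ha => ?_⟩
  rw [← Submodule.Quotient.mk_smul, Submodule.Quotient.mk_eq_zero]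
  exact ⟨φ ⟨a, ha⟩, (smul_ιD φ ⟨a, ha⟩).symm⟩

omit [IsNoetherianRing R] in
variable (I M) in
theorem ker_toDT : LinearMap.ker (toDT I M) = DRing.torsionSub I M :=
  Submodule.ext fun m => LinearMap.mem_ker.trans (toDT_eq_zero_iff m)

/-- `D_I(M)` extends maps along morphisms with torsion kernel and cokernel. -/
theorem exists_extend {N P : Type u} [AddCommGroup N] [Module R N] [AddCommGroup P] [Module R P]
    (e : N →ₗ[R] P) (hker : LinearMap.ker e ≤ DRing.torsionSub I N)
    (hcoker : LocCoh.IsPowerTorsion I (P ⧸ LinearMap.range e)) (ψ : N →ₗ[R] DT I M) :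
    ∃ ψ' : P →ₗ[R] DT I M, ψ' ∘ₗ e = ψ := by
  let N' : Submodule R (N × M) :=
    LinearMap.ker (ψ ∘ₗ LinearMap.fst R N M - toDT I M ∘ₗ LinearMap.snd R N M)
  have hN' : ∀ z : N', ψ z.1.1 = toDT I M z.1.2 := fun z => sub_eq_zero.1 (LinearMap.mem_ker.1 z.2)
  let π : N' →ₗ[R] N := LinearMap.fst R N M ∘ₗ N'.subtype
  have hker' : LinearMap.ker (e ∘ₗ π) ≤ DRing.torsionSub I N' := by
    intro z hz
    have h1 := hker (show π z ∈ LinearMap.ker e from hz)
    have h2 : toDT I M z.1.2 ∈ DRing.torsionSub I (DT I M) := by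
      rw [← hN']; exact DRing.map_mem_torsionSub I ψ h1
    rw [torsionSub_DT, Submodule.mem_bot] at h2
    obtain ⟨k, hk⟩ := h1
    obtain ⟨l, hl⟩ := (toDT_eq_zero_iff _).1 h2
    exact ⟨k + l, fun a ha => Subtype.ext (Prod.ext (hk a (Ideal.pow_le_pow_right (Nat.le_add_right k l) ha))
      (hl a (Ideal.pow_le_pow_right (Nat.le_add_left l k) ha)))⟩
  have hcok' : LocCoh.IsPowerTorsion I (P ⧸ LinearMap.range (e ∘ₗ π)) := fun x => by
    obtain ⟨x, rfl⟩ := Submodule.Quotient.mk_surjective _ x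
    obtain ⟨n, hn⟩ := hcoker (Submodule.Quotient.mk x)
    have hn' : ∀ a ∈ I ^ n, ∃ y, e y = a • x := fun a ha => by
      have h := hn a ha
      rwa [← Submodule.Quotient.mk_smul, Submodule.Quotient.mk_eq_zero] at h
    choose y hy using hn'
    obtain ⟨s, hs⟩ : (I ^ n).FG := IsNoetherian.noetherian _
    classical
    have hmem : ∀ a : R, a ∈ s → a ∈ I ^ n := fun a ha => hs ▸ Submodule.subset_span ha
    choose m hm using fun a : {a // a ∈ s} =>
      isPowerTorsion_coker_toDT I M (Submodule.Quotient.mk (ψ (y a.1 (hmem a.1 a.2))))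
    refine ⟨Finset.univ.sup m + n, fun b hb => ?_⟩
    rw [← Submodule.Quotient.mk_smul, Submodule.Quotient.mk_eq_zero]
    rw [pow_add, ← hs] at hb
    refine Submodule.mul_induction_on hb (fun u hu v hv => ?_) fun u v hu hv => by
      rw [add_smul]; exact add_mem hu hv
    induction hv using Submodule.span_induction with
    | mem v hv =>
      have h1 := hm ⟨v, hv⟩ u (Ideal.pow_le_pow_right (Finset.le_sup (Finset.mem_univ _)) hu)
      rw [← Submodule.Quotient.mk_smul, Submodule.Quotient.mk_eq_zero] at h1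
      obtain ⟨w, hw⟩ := h1
      refine ⟨⟨(u • y v (hmem v hv), w), LinearMap.mem_ker.2 (sub_eq_zero.2 ?_)⟩, ?_⟩
      · change ψ (u • y v _) = toDT I M w
        rw [map_smul, hw]
      · change e (u • y v _) = (u * v) • x
        rw [map_smul, hy, mul_smul]
    | zero => rw [mul_zero, zero_smul]; exact zero_mem _
    | add v w _ _ h1 h2 => rw [mul_add, add_smul]; exact add_mem h1 h2
    | smul r v _ h1 => rw [mul_smul_comm, smul_assoc]; exact Submodule.smul_mem _ r h1
  obtain ⟨ψ', hψ'⟩ := exists_factor (e ∘ₗ π) hker' hcok' (LinearMap.snd R N M ∘ₗ N'.subtype)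
  refine ⟨ψ', linearMap_ext_of_torsion_coker (e := π) ?_ ?_⟩
  · intro y
    obtain ⟨y, rfl⟩ := Submodule.Quotient.mk_surjective _ y
    obtain ⟨k, hk⟩ := isPowerTorsion_coker_toDT I M (Submodule.Quotient.mk (ψ y))
    refine ⟨k, fun a ha => ?_⟩
    have h1 := hk a ha
    rw [← Submodule.Quotient.mk_smul, Submodule.Quotient.mk_eq_zero] at h1
    obtain ⟨w, hw⟩ := h1
    rw [← Submodule.Quotient.mk_smul, Submodule.Quotient.mk_eq_zero]
    exact ⟨⟨(a • y, w), LinearMap.mem_ker.2 (sub_eq_zero.2 ((map_smul ψ a y).trans hw.symm))⟩, rfl⟩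
  · refine LinearMap.ext fun z => ?_
    exact (LinearMap.congr_fun hψ' z).trans (hN' z).symm

/-- Recognition of the ideal transform. -/
theorem bijective_of_factor {P : Type u} [AddCommGroup P] [Module R P] (e : M →ₗ[R] P)
    (hcoker : LocCoh.IsPowerTorsion I (P ⧸ LinearMap.range e))
    (hlift : ∀ (n : ℕ) (φ : ↥(I ^ n) →ₗ[R] M), ∃ p : P, ∃ m, ∀ a : ↥(I ^ n), (a : R) ∈ I ^ m → (a : R) • p = e (φ a))
    (htf : DRing.torsionSub I P = ⊥) (θ : P →ₗ[R] DT I M) (hθ : θ ∘ₗ e = toDT I M) :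
    Function.Bijective θ := by
  constructor
  · rw [injective_iff_map_eq_zero]
    intro p hp
    have hmem : p ∈ DRing.torsionSub I P := by
      obtain ⟨n, hn⟩ := hcoker (Submodule.Quotient.mk p)
      have hpre : ∀ a ∈ I ^ n, ∃ y, e y = a • p ∧ y ∈ DRing.torsionSub I M := fun a ha => by
        have h := hn a ha
        rw [← Submodule.Quotient.mk_smul, Submodule.Quotient.mk_eq_zero] at h
        obtain ⟨y, hy⟩ := h
        refine ⟨y, hy, (toDT_eq_zero_iff y).1 ?_⟩
        rw [← hθ, LinearMap.comp_apply, hy, map_smul, hp, smul_zero]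
      refine ⟨n, fun a ha => ?_⟩
      obtain ⟨y, hy, hyt⟩ := hpre a ha
      have h1 := DRing.map_mem_torsionSub I e hyt
      rw [hy, htf, Submodule.mem_bot] at h1
      exact h1
    rwa [htf, Submodule.mem_bot] at hmem
  · intro x
    obtain ⟨n, φ, rfl⟩ := exists_ιD x
    obtain ⟨p, m, hp⟩ := hlift n φ
    refine ⟨p, eq_of_forall_smul (k := max n m) fun a ha => ?_⟩
    have han := Ideal.pow_le_pow_right (le_max_left n m) ha
    rw [← map_smul, hp ⟨a, han⟩ (Ideal.pow_le_pow_right (le_max_right n m) ha)]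
    exact ((LinearMap.congr_fun hθ _).trans (smul_ιD φ ⟨a, han⟩).symm)

end Groth.Agent.DTLib
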