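import Groth.Agent.Lib.IdealTransform.Univ
import Groth.Agent.Lib.LocCoh.Seq
import Groth.Agent.Lib.InjHull.Basic

/-!
# `coker (M → D_I M) ≅ H^1_I(M)`
-/

universe u

open CategoryTheory LocCoh Groth.Agent.LocCohLib Groth.Agent.InjHullLib

noncomputable section

namespace Groth.Agent.DTLib

variable {R : Type u} [CommRing R] {I : Ideal R}

theorem torsionSub_eq_powTors (M : Type u) [AddCommGroup M] [Module R M] :
    DRing.torsionSub I M = powTors I M :=
  Submodule.ext fun _ => (mem_powTors_iff).symm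

variable [IsNoetherianRing R]

theorem nonempty_coker_equiv (M : Type u) [AddCommGroup M] [Module R M] :
    Nonempty ((DT I M ⧸ LinearMap.range (toDT I M)) ≃ₗ[R] LocCoh.H I 1 M) := by
  obtain ⟨E, _, _, f, hE, hf, hac⟩ := exists_injective_extension (R := R) M
  let g := (LinearMap.range f).mkQ
  obtain ⟨e1⟩ := nonempty_h1Equiv I hf (Submodule.mkQ_surjective _) f.exact_map_mkQ_range (hac I 0)
  let N : Submodule R E := (powTors I (E ⧸ LinearMap.range f)).comap g
  let f₀ : M →ₗ[R] N := LinearMap.codRestrict N f fun m => by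
    have h0 : g (f m) = 0 := (Submodule.Quotient.mk_eq_zero _).2 ⟨m, rfl⟩
    rw [Submodule.mem_comap, h0]
    exact zero_mem _
  have hker : LinearMap.ker f₀ ≤ DRing.torsionSub I M := fun m hm => by
    rw [show m = 0 from hf ((congrArg Subtype.val (LinearMap.mem_ker.1 hm)).trans (map_zero f).symm)]
    exact zero_mem _
  have hcoker : LocCoh.IsPowerTorsion I (N ⧸ LinearMap.range f₀) := fun z => by
    obtain ⟨z, rfl⟩ := Submodule.Quotient.mk_surjective _ z
    obtain ⟨k, hk⟩ := mem_powTors_iff.1 z.2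
    refine ⟨k, fun a ha => ?_⟩
    have h := hk a ha
    change a • Submodule.Quotient.mk (z : E) = 0 at h
    rw [← Submodule.Quotient.mk_smul, Submodule.Quotient.mk_eq_zero] at h
    obtain ⟨m, hm⟩ := h
    rw [← Submodule.Quotient.mk_smul, Submodule.Quotient.mk_eq_zero]
    exact ⟨m, Subtype.ext hm⟩
  obtain ⟨θ, hθ⟩ := exists_factor f₀ hker hcoker LinearMap.id
  let θ' : N →ₗ[R] DT I M ⧸ LinearMap.range (toDT I M) := (LinearMap.range (toDT I M)).mkQ ∘ₗ θ
  let ρ : N →ₗ[R] LocCoh.H I 1 M :=
    e1.toLinearMap ∘ₗ (torsImage I g).mkQ ∘ₗ LinearMap.codRestrict _ (g ∘ₗ N.subtype) fun z => z.2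
  have hρ : Function.Surjective ρ := fun x => by
    obtain ⟨c, rfl⟩ := (e1.surjective.comp (Submodule.mkQ_surjective _)) x
    obtain ⟨z, hz⟩ := Submodule.mkQ_surjective (LinearMap.range f) c.1
    refine ⟨⟨z, by rw [Submodule.mem_comap, hz]; exact c.2⟩, ?_⟩
    exact congrArg (fun w => e1 ((torsImage I g).mkQ w)) (Subtype.ext hz)
  have hθ' : Function.Surjective θ' := fun x => by
    obtain ⟨x, rfl⟩ := Submodule.Quotient.mk_surjective _ x
    obtain ⟨n, φ, rfl⟩ := exists_ιD x
    obtain ⟨ex, hex⟩ := hE.out (I ^ n).subtype (Submodule.injective_subtype _) (f ∘ₗ φ)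
    have hz : ∀ a : ↥(I ^ n), (a : R) • ex 1 = f (φ a) := fun a => by
      rw [← map_smul, smul_eq_mul, mul_one]
      exact hex a
    have hz' : ex 1 ∈ N := by
      rw [Submodule.mem_comap]
      refine mem_powTors_iff.2 ⟨n, fun a ha => ?_⟩
      rw [← map_smul, hz ⟨a, ha⟩]
      exact (Submodule.Quotient.mk_eq_zero _).2 ⟨_, rfl⟩
    refine ⟨⟨ex 1, hz'⟩, ?_⟩
    change Submodule.Quotient.mk (θ ⟨ex 1, hz'⟩) = _
    refine congrArg _ (eq_of_forall_smul (k := n) fun a ha => ?_)
    have heq : a • (⟨ex 1, hz'⟩ : N) = f₀ (φ ⟨a, ha⟩) := Subtype.ext (hz ⟨a, ha⟩)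
    rw [← map_smul, heq]
    exact (LinearMap.congr_fun hθ _).trans (smul_ιD φ ⟨a, ha⟩).symm
  have hkk : LinearMap.ker θ' = LinearMap.ker ρ := by
    ext z
    simp only [θ', ρ, LinearMap.mem_ker, LinearMap.comp_apply, Submodule.mkQ_apply, LinearEquiv.coe_coe,
      map_eq_zero_iff e1 e1.injective, Submodule.Quotient.mk_eq_zero, mem_torsImage,
      LinearMap.codRestrict_apply, Submodule.subtype_apply]
    constructor
    · rintro ⟨m, hm⟩
      refine ⟨(z : E) - f m, ?_, ?_⟩
      · obtain ⟨k, hk⟩ := hcoker (Submodule.Quotient.mk z)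
        have hkz : ∀ a ∈ I ^ k, a • ((z : E) - f m) ∈ powTors I E := fun a ha => by
          have h := hk a ha
          rw [← Submodule.Quotient.mk_smul, Submodule.Quotient.mk_eq_zero] at h
          obtain ⟨y, hy⟩ := h
          have h1 : toDT I M (y - a • m) = 0 := by
            rw [map_sub, map_smul, hm, ← map_smul θ, ← hy]
            exact sub_eq_zero.2 (LinearMap.congr_fun hθ y).symm
          obtain ⟨l, hl⟩ := (toDT_eq_zero_iff _).1 h1
          refine mem_powTors_iff.2 ⟨l, fun b hb => ?_⟩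
          rw [smul_sub, ← congrArg Subtype.val hy |>.trans (Submodule.coe_smul a z), ← map_smul f,
            show ((f₀ y : N) : E) = f y from rfl, ← map_sub, ← map_smul, hl b hb, map_zero]
        classical
        obtain ⟨s, hs⟩ : (I ^ k).FG := IsNoetherian.noetherian _
        choose l hl using fun a : {a // a ∈ s} => mem_powTors_iff.1
          (hkz a.1 (hs ▸ Submodule.subset_span a.2))
        refine mem_powTors_iff.2 ⟨Finset.univ.sup l + k, fun b hb => ?_⟩
        rw [pow_add, ← hs] at hb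
        refine Submodule.mul_induction_on hb (fun u hu v hv => ?_) fun u v hu hv => by
          rw [add_smul, hu, hv, add_zero]
        induction hv using Submodule.span_induction with
        | mem v hv =>
          rw [mul_smul]
          exact hl ⟨v, hv⟩ u (Ideal.pow_le_pow_right (Finset.le_sup (Finset.mem_univ _)) hu)
        | zero => rw [mul_zero, zero_smul]
        | add v w _ _ h1 h2 => rw [mul_add, add_smul, h1, h2, add_zero]
        | smul r v _ h1 => rw [mul_smul_comm, smul_assoc, h1, smul_zero]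
      · rw [map_sub, show g (f m) = 0 from (Submodule.Quotient.mk_eq_zero _).2 ⟨m, rfl⟩, sub_zero]
    · rintro ⟨b, hb, hbz⟩
      obtain ⟨m, hm⟩ := (Submodule.Quotient.eq _).1 hbz
      refine ⟨-m, ?_⟩
      have hfm : (z : E) = f (-m) + b := by rw [map_neg, hm]; abel
      obtain ⟨l, hl⟩ := mem_powTors_iff.1 hb
      refine eq_of_forall_smul (k := l) fun a ha => ?_
      rw [← map_smul, ← map_smul θ,
        show a • z = f₀ (a • -m) from Subtype.ext (by
          change a • (z : E) = f (a • -m)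
          rw [hfm, smul_add, hl a ha, add_zero, map_smul])]
      exact (LinearMap.congr_fun hθ _).symm
  exact ⟨(θ'.quotKerEquivOfSurjective hθ').symm ≪≫ₗ Submodule.quotEquivOfEq _ _ hkk ≪≫ₗ
    ρ.quotKerEquivOfSurjective hρ⟩

end Groth.Agent.DTLib
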