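import Groth.Agent.Lib.IdealTransform.CokerH1
import Groth.Agent.Lib.LocCoh.Torsion
import Mathlib.Algebra.Module.LocalizedModule.Basic

/-!
# Maps with torsion kernel and cokernel; principal ideals
-/

universe u

open CategoryTheory LocCoh Groth.Agent.LocCohLib Groth.Agent.InjHullLib

noncomputable section

namespace Groth.Agent.DTLib

variable {R : Type u} [CommRing R] [IsNoetherianRing R] {I : Ideal R}
variable {M : Type u} [AddCommGroup M] [Module R M]

theorem DT_subsingleton (hM : LocCoh.IsPowerTorsion I M) : Subsingleton (DT I M) := by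
  refine subsingleton_of_forall_eq 0 fun x => ?_
  obtain ⟨n, φ, rfl⟩ := exists_ιD x
  refine eq_zero_of_forall_smul (k := n) fun a ha => ?_
  refine (smul_ιD φ ⟨a, ha⟩).trans ((toDT_eq_zero_iff _).2 ?_)
  exact hM _

omit [IsNoetherianRing R] in
theorem isPowerTorsion_torsionSub : LocCoh.IsPowerTorsion I (DRing.torsionSub I M) := fun x =>
  x.2.imp fun _ h a ha => Subtype.ext (h a ha)

section Map

variable {N : Type u} [AddCommGroup N] [Module R N] (e : M →ₗ[R] N)

theorem dmap_bijective (hker : LinearMap.ker e ≤ DRing.torsionSub I M)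
    (hcoker : LocCoh.IsPowerTorsion I (N ⧸ LinearMap.range e)) :
    Function.Bijective ((idealTransform I).map (ModuleCat.ofHom e)).hom := by
  set D := ((idealTransform I).map (ModuleCat.ofHom e)).hom with hD
  obtain ⟨θ, hθ⟩ := exists_extend e hker hcoker (toDT I M)
  obtain ⟨ρ, hρ⟩ := exists_extend (toDT I N) (ker_toDT I N).le (isPowerTorsion_coker_toDT I N) θ
  have h1 : ρ ∘ₗ D = LinearMap.id := by
    refine linearMap_ext_of_torsion_coker (isPowerTorsion_coker_toDT I M) (LinearMap.ext fun m => ?_)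
    change ρ (D (toDT I M m)) = toDT I M m
    rw [hD, map_toDT]
    exact (LinearMap.congr_fun hρ (e m)).trans (LinearMap.congr_fun hθ m)
  have h2 : D ∘ₗ ρ = LinearMap.id := by
    refine linearMap_ext_of_torsion_coker (isPowerTorsion_coker_toDT I N) ?_
    refine linearMap_ext_of_torsion_coker hcoker (LinearMap.ext fun m => ?_)
    change D (ρ (toDT I N (e m))) = toDT I N (e m)
    rw [show ρ (toDT I N (e m)) = θ (e m) from LinearMap.congr_fun hρ (e m),
      show θ (e m) = toDT I M m from LinearMap.congr_fun hθ m, hD, map_toDT]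
  exact Function.bijective_iff_has_inverse.2
    ⟨ρ, fun x => LinearMap.congr_fun h1 x, fun x => LinearMap.congr_fun h2 x⟩

theorem hmap_bijective_of_torsion (hker : LinearMap.ker e ≤ DRing.torsionSub I M)
    (hcoker : LocCoh.IsPowerTorsion I (N ⧸ LinearMap.range e)) (i : ℕ) (hi : 1 < i) :
    Function.Bijective (hmap I i e) := by
  obtain ⟨j, rfl⟩ : ∃ j, i = j + 1 + 1 := ⟨i - 2, by omega⟩
  have hK : LocCoh.IsPowerTorsion I (LinearMap.ker e) := fun x =>
    (hker x.2).imp fun _ h a ha => Subtype.ext (h a ha)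
  have h1 : Function.Bijective (hmap I (j + 1 + 1) e.rangeRestrict) := by
    have hex : Function.Exact (LinearMap.ker e).subtype e.rangeRestrict := by
      intro x
      simp [Subtype.ext_iff]
    refine ⟨?_, hmap_g_surjective I (Submodule.injective_subtype _) e.surjective_rangeRestrict hex _
      (subsingleton_of_isPowerTorsion I _ _ hK)⟩
    rw [injective_iff_map_eq_zero]
    intro x hx
    obtain ⟨y, rfl⟩ := (exact_map_map I _ (shortExact_mk _ _ (Submodule.injective_subtype _)
      e.surjective_rangeRestrict hex) x).1 hx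
    exact (congrArg _ ((subsingleton_of_isPowerTorsion I _ _ hK).elim y 0)).trans (map_zero _)
  have h2 : Function.Bijective (hmap I (j + 1 + 1) (LinearMap.range e).subtype) :=
    ⟨hmap_f_injective I (Submodule.injective_subtype _) (Submodule.mkQ_surjective _)
        (LinearMap.exact_subtype_mkQ _) (j + 1) (subsingleton_of_isPowerTorsion I _ _ hcoker),
      hmap_f_surjective I (Submodule.injective_subtype _) (Submodule.mkQ_surjective _)
        (LinearMap.exact_subtype_mkQ _) _ (subsingleton_of_isPowerTorsion I _ _ hcoker)⟩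
  have := h2.comp h1
  rwa [← LinearMap.coe_comp, ← hmap_comp] at this

end Map

theorem toDT_DT_bijective : Function.Bijective (toDT I (DT I M)) := by
  constructor
  · rw [← LinearMap.ker_eq_bot, ker_toDT, torsionSub_DT]
  · have h : ((idealTransform I).map (ModuleCat.ofHom (toDT I M))).hom = toDT I (DT I M) :=
      linearMap_ext_of_torsion_coker (isPowerTorsion_coker_toDT I M)
        (LinearMap.ext fun m => map_toDT (toDT I M) m)
    intro x
    obtain ⟨y, hy⟩ := (dmap_bijective (toDT I M) (ker_toDT I M).le (isPowerTorsion_coker_toDT I M)).2 x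
    exact ⟨y, (LinearMap.congr_fun h y).symm.trans hy⟩

theorem subsingleton_H_one_DT : Subsingleton (LocCoh.H I 1 (DT I M)) := by
  obtain ⟨e⟩ := nonempty_coker_equiv (I := I) (DT I M)
  refine e.toEquiv.subsingleton_congr.1 (subsingleton_of_forall_eq 0 fun z => ?_)
  obtain ⟨z, rfl⟩ := Submodule.Quotient.mk_surjective _ z
  exact (Submodule.Quotient.mk_eq_zero _).2 (toDT_DT_bijective.2 z)

theorem factor_bijective {N K : Type u} [AddCommGroup N] [Module R N] [AddCommGroup K] [Module R K]
    (e : M →ₗ[R] N) (hker : LinearMap.ker e ≤ DRing.torsionSub I M)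
    (hcoker : LocCoh.IsPowerTorsion I (N ⧸ LinearMap.range e)) (ψ : M →ₗ[R] K)
    (hψ : Function.Bijective ψ) (ψ' : N →ₗ[R] DT I K) (hψ' : ψ' ∘ₗ e = toDT I K ∘ₗ ψ)
    (hη : Function.Bijective (toDT I N)) : Function.Bijective ψ' := by
  have hψk : LinearMap.ker ψ ≤ DRing.torsionSub I M := by
    rw [LinearMap.ker_eq_bot.2 hψ.1]; exact bot_le
  have hψc : LocCoh.IsPowerTorsion I (K ⧸ LinearMap.range ψ) := fun z => by
    obtain ⟨z, rfl⟩ := Submodule.Quotient.mk_surjective _ z
    exact ⟨0, fun a _ => by rw [← Submodule.Quotient.mk_smul, Submodule.Quotient.mk_eq_zero]; exact hψ.2 _⟩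
  let Θ := LinearEquiv.ofBijective _ (dmap_bijective e hker hcoker)
  let Φ := ((idealTransform I).map (ModuleCat.ofHom ψ)).hom
  have hg : ψ' = Φ ∘ₗ Θ.symm.toLinearMap ∘ₗ toDT I N := by
    refine linearMap_ext_of_torsion_coker hcoker (hψ'.trans (LinearMap.ext fun m => ?_))
    change _ = Φ (Θ.symm (toDT I N (e m)))
    rw [show Θ.symm (toDT I N (e m)) = toDT I M m from Θ.symm_apply_eq.2 (map_toDT e m).symm]
    exact (map_toDT ψ m).symm
  rw [hg]
  exact (dmap_bijective ψ hψk hψc).comp (Θ.symm.bijective.comp hη)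

theorem toDT_bijective_of_regular_pair {x y : R} (hx : x ∈ I) (hy : y ∈ I)
    (hxM : ∀ m : M, x • m = 0 → m = 0) (hyM : ∀ m m' : M, y • m = x • m' → ∃ v, m = x • v) :
    Function.Bijective (toDT I M) := by
  have hxk : ∀ (k : ℕ) (m : M), x ^ k • m = 0 → m = 0 := by
    intro k
    induction k with
    | zero => intro m hm; rwa [pow_zero, one_smul] at hm
    | succ k ih => intro m hm; rw [pow_succ, mul_smul] at hm; exact hxM m (ih _ hm)
  have hy1 : ∀ (k : ℕ) (m m' : M), y • m = x ^ k • m' → ∃ v, m = x ^ k • v := by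
    intro k
    induction k with
    | zero => intro m m' _; exact ⟨m, by rw [pow_zero, one_smul]⟩
    | succ k ih =>
      intro m m' h
      rw [pow_succ', mul_smul] at h
      obtain ⟨v, rfl⟩ := hyM m _ h
      rw [smul_comm] at h
      obtain ⟨w, rfl⟩ := ih v m' (sub_eq_zero.1 (hxM _ (by rw [smul_sub, h, sub_self])))
      exact ⟨w, by rw [pow_succ', mul_smul]⟩
  have hyk : ∀ (k l : ℕ) (m m' : M), y ^ l • m = x ^ k • m' → ∃ v, m = x ^ k • v := by
    intro k l
    induction l with
    | zero => intro m m' h; exact ⟨m', by rwa [pow_zero, one_smul] at h⟩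
    | succ l ih =>
      intro m m' h
      rw [pow_succ, mul_smul] at h
      obtain ⟨v, hv⟩ := ih (y • m) m' h
      exact hy1 k m v hv
  constructor
  · rw [injective_iff_map_eq_zero]
    intro m hm
    obtain ⟨k, hk⟩ := (toDT_eq_zero_iff m).1 hm
    exact hxk k m (hk _ (Ideal.pow_mem_pow hx k))
  · intro z
    obtain ⟨n, φ, rfl⟩ := exists_ιD z
    obtain ⟨v, hv⟩ := hyk n n (φ ⟨x ^ n, Ideal.pow_mem_pow hx n⟩) (φ ⟨y ^ n, Ideal.pow_mem_pow hy n⟩)
      (by rw [← map_smul, ← map_smul]; exact congrArg φ (Subtype.ext (mul_comm _ _)))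
    refine ⟨v, eq_of_forall_smul (k := n) fun a ha => ?_⟩
    rw [show a = ((⟨a, ha⟩ : ↥(I ^ n)) : R) from rfl, smul_ιD, ← map_smul]
    refine congrArg (toDT I M) (sub_eq_zero.1 (hxk n _ ?_))
    rw [smul_sub, sub_eq_zero, smul_comm, ← hv, ← map_smul, ← map_smul]
    exact congrArg φ (Subtype.ext (mul_comm _ _))

section Principal

variable (a : R)

theorem smul_bijective_DT : Function.Bijective (fun z : DT (Ideal.span {a}) M => a • z) := by
  let e : DT (Ideal.span {a}) M →ₗ[R] DT (Ideal.span {a}) M := LinearMap.lsmul R _ a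
  have hker : LinearMap.ker e ≤ DRing.torsionSub (Ideal.span {a}) (DT (Ideal.span {a}) M) := fun z hz =>
    ⟨1, fun b hb => by
      rw [pow_one, Ideal.mem_span_singleton'] at hb
      obtain ⟨c, rfl⟩ := hb
      rw [mul_smul, show a • z = 0 from hz, smul_zero]⟩
  have hcoker : LocCoh.IsPowerTorsion (Ideal.span {a}) (DT (Ideal.span {a}) M ⧸ LinearMap.range e) := fun z => by
    obtain ⟨z, rfl⟩ := Submodule.Quotient.mk_surjective _ z
    refine ⟨1, fun b hb => ?_⟩
    rw [pow_one, Ideal.mem_span_singleton'] at hb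
    obtain ⟨c, rfl⟩ := hb
    rw [← Submodule.Quotient.mk_smul, Submodule.Quotient.mk_eq_zero]
    exact ⟨c • z, by change a • c • z = _; rw [smul_smul, mul_comm]⟩
  obtain ⟨g, hg⟩ := exists_extend e hker hcoker LinearMap.id
  refine Function.bijective_iff_has_inverse.2 ⟨g, fun z => LinearMap.congr_fun hg z, fun z => ?_⟩
  change a • g z = z
  rw [← map_smul]
  exact LinearMap.congr_fun hg z

theorem isLocalizedModule_toDT :
    IsLocalizedModule (Submonoid.powers a) (toDT (Ideal.span {a}) M) where
  map_units := by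
    rintro ⟨-, k, rfl⟩
    rw [Module.End.isUnit_iff]
    induction k with
    | zero => simpa [pow_zero, map_one, Module.End.one_eq_id] using
        (Function.bijective_id : Function.Bijective (id : DT (Ideal.span {a}) M → DT (Ideal.span {a}) M))
    | succ k ih =>
      have := ih.comp (smul_bijective_DT (M := M) a)
      convert this using 1
      funext z
      simp [pow_succ, mul_smul]
  surj z := by
    obtain ⟨n, φ, rfl⟩ := exists_ιD z
    exact ⟨⟨φ ⟨a ^ n, Ideal.pow_mem_pow (Ideal.mem_span_singleton_self a) n⟩, ⟨a ^ n, n, rfl⟩⟩,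
      smul_ιD φ ⟨a ^ n, Ideal.pow_mem_pow (Ideal.mem_span_singleton_self a) n⟩⟩
  exists_of_eq {m₁ m₂} h := by
    rw [← sub_eq_zero, ← map_sub, toDT_eq_zero_iff] at h
    obtain ⟨k, hk⟩ := h
    refine ⟨⟨a ^ k, k, rfl⟩, ?_⟩
    have := hk _ (Ideal.pow_mem_pow (Ideal.mem_span_singleton_self a) k)
    rw [smul_sub, sub_eq_zero] at this
    exact this

end Principal

end Groth.Agent.DTLib
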