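import Groth.Prelude.Def_W4bk5brsh16IT
import Mathlib.Algebra.Category.ModuleCat.FilteredColimits
import Mathlib.CategoryTheory.Limits.ConcreteCategory.Filtered

/-!
# Elementwise description of the ideal transform
-/

universe u

open CategoryTheory Limits Opposite LocCoh

noncomputable section

namespace Groth.Agent.DTLib

variable {R : Type u} [CommRing R] (I : Ideal R) (M : Type u) [AddCommGroup M] [Module R M]

/-- The class of `φ : I ^ n → M` in `D_I(M)`. -/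
def ιD (n : ℕ) : (↥(I ^ n) →ₗ[R] M) →ₗ[R] DT I M :=
  ((colimit.ι (transformDiagram I) (op (op n))).app (ModuleCat.of R M)).hom ∘ₗ
    (ModuleCat.homLinearEquiv (S := R) (M := ModuleCat.of R ↥(I ^ n)) (N := ModuleCat.of R M)).symm.toLinearMap

theorem ιD_restrict {n m : ℕ} (h : n ≤ m) (φ : ↥(I ^ n) →ₗ[R] M) :
    ιD I M m (φ ∘ₗ Submodule.inclusion (Ideal.pow_le_pow_right h)) = ιD I M n φ :=
  LinearMap.congr_fun (congrArg ModuleCat.Hom.hom
    (NatTrans.congr_app (colimit.w (transformDiagram I) (homOfLE h).op.op) (ModuleCat.of R M)))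
    (ModuleCat.ofHom φ)

/-- The diagram `n ↦ Hom(I ^ n, M)`. -/
abbrev homDiagram : ℕᵒᵖᵒᵖ ⥤ ModuleCat.{u} R :=
  transformDiagram I ⋙ (evaluation _ _).obj (ModuleCat.of R M)

/-- Evaluation of the colimit. -/
def objIso : (idealTransform I).obj (ModuleCat.of R M) ≅ colimit (homDiagram I M) :=
  colimitObjIsoColimitCompEvaluation (transformDiagram I) (ModuleCat.of R M)

theorem objIso_ιD (n : ℕ) (φ : ↥(I ^ n) →ₗ[R] M) :
    (objIso I M).hom.hom (ιD I M n φ) =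
      (colimit.ι (homDiagram I M) (op (op n))).hom (ModuleCat.ofHom φ) :=
  LinearMap.congr_fun (congrArg ModuleCat.Hom.hom
    (colimitObjIsoColimitCompEvaluation_ι_app_hom (transformDiagram I) (op (op n)) (ModuleCat.of R M)))
    (ModuleCat.ofHom φ)

instance : PreservesFilteredColimitsOfSize.{0, 0} (forget (ModuleCat.{u} R)) :=
  preservesSmallestFilteredColimits_of_preservesFilteredColimits.{u, u} _

variable {I M}

theorem exists_ιD (x : DT I M) : ∃ n φ, ιD I M n φ = x := by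
  obtain ⟨⟨⟨n⟩⟩, z, hz⟩ := Concrete.colimit_exists_rep (homDiagram I M) ((objIso I M).hom.hom x)
  refine ⟨n, z.hom, (ModuleCat.mono_iff_injective (objIso I M).hom).1 inferInstance ?_⟩
  exact (objIso_ιD I M n z.hom).trans hz

theorem ιD_eq_zero_iff {n : ℕ} (φ : ↥(I ^ n) →ₗ[R] M) :
    ιD I M n φ = 0 ↔ ∃ (m : ℕ) (h : n ≤ m), φ ∘ₗ Submodule.inclusion (Ideal.pow_le_pow_right h) = 0 := by
  refine ⟨fun h0 => ?_, fun ⟨m, h, h0⟩ => by rw [← ιD_restrict I M h, h0, map_zero]⟩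
  have h1 : (colimit.ι (homDiagram I M) (op (op n))).hom (ModuleCat.ofHom φ) =
      (colimit.ι (homDiagram I M) (op (op n))).hom 0 := by
    refine (objIso_ιD I M n φ).symm.trans ?_
    refine (congrArg (objIso I M).hom.hom h0).trans ?_
    exact ((objIso I M).hom.hom.map_zero).trans (map_zero _).symm
  obtain ⟨⟨⟨m⟩⟩, f, g, hfg⟩ := Concrete.colimit_exists_of_rep_eq _ _ _ h1
  have hnm : n ≤ m := leOfHom f.unop.unop
  have hf : f = (homOfLE hnm).op.op := Quiver.Hom.unop_inj (Quiver.Hom.unop_inj (Subsingleton.elim _ _))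
  refine ⟨m, hnm, ?_⟩
  subst hf
  exact congrArg ModuleCat.Hom.hom (hfg.trans (map_zero _))

theorem exists_ιD_le (x : DT I M) (n₀ : ℕ) : ∃ n, n₀ ≤ n ∧ ∃ φ, ιD I M n φ = x := by
  obtain ⟨n, φ, rfl⟩ := exists_ιD x
  exact ⟨max n₀ n, le_max_left _ _, _, ιD_restrict I M (le_max_right n₀ n) φ⟩

variable (I M) in
/-- `m ↦ (r ↦ r • m)` on `I ^ n`. -/
def smulOn (n : ℕ) : M →ₗ[R] ↥(I ^ n) →ₗ[R] M := ((LinearMap.lsmul R M).domRestrict (I ^ n)).flip

@[simp] theorem smulOn_apply (n : ℕ) (m : M) (r : ↥(I ^ n)) : smulOn I M n m r = (r : R) • m := rfl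

theorem toDT_eq (m : M) : toDT I M m = ιD I M 0 (smulOn I M 0 m) := rfl

theorem toDT_eq_ιD (n : ℕ) (m : M) : toDT I M m = ιD I M n (smulOn I M n m) := by
  rw [toDT_eq, ← ιD_restrict I M (Nat.zero_le n)]
  rfl

/-- `a • [φ] = η(φ a)` for `a ∈ I ^ n`. -/
theorem smul_ιD {n : ℕ} (φ : ↥(I ^ n) →ₗ[R] M) (a : ↥(I ^ n)) :
    (a : R) • ιD I M n φ = toDT I M (φ a) := by
  rw [toDT_eq_ιD n, ← map_smul]
  congr 1
  refine LinearMap.ext fun r => ?_
  rw [LinearMap.smul_apply, smulOn_apply, ← map_smul, ← map_smul]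
  exact congrArg φ (Subtype.ext (mul_comm _ _))

theorem toDT_eq_zero_iff (m : M) : toDT I M m = 0 ↔ m ∈ DRing.torsionSub I M := by
  rw [toDT_eq, ιD_eq_zero_iff]
  constructor
  · rintro ⟨k, h, hk⟩
    exact ⟨k, fun a ha => LinearMap.congr_fun hk ⟨a, ha⟩⟩
  · rintro ⟨k, hk⟩
    exact ⟨k, Nat.zero_le k, LinearMap.ext fun a => hk a.1 a.2⟩

theorem map_ιD {N : Type u} [AddCommGroup N] [Module R N] (f : M →ₗ[R] N) {n : ℕ}
    (φ : ↥(I ^ n) →ₗ[R] M) :
    ((idealTransform I).map (ModuleCat.ofHom f)).hom (ιD I M n φ) = ιD I N n (f ∘ₗ φ) :=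
  (LinearMap.congr_fun (congrArg ModuleCat.Hom.hom
    ((colimit.ι (transformDiagram I) (op (op n))).naturality (ModuleCat.ofHom f))) (ModuleCat.ofHom φ)).symm

theorem map_toDT {N : Type u} [AddCommGroup N] [Module R N] (f : M →ₗ[R] N) (m : M) :
    ((idealTransform I).map (ModuleCat.ofHom f)).hom (toDT I M m) = toDT I N (f m) := by
  rw [toDT_eq, map_ιD, toDT_eq]
  congr 1
  exact LinearMap.ext fun r => map_smul f (r : R) m

theorem DTmapOfLE_ιD {J : Ideal R} (h : I ≤ J) {n : ℕ} (φ : ↥(J ^ n) →ₗ[R] M) :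
    ((DTmapOfLE h).app (ModuleCat.of R M)).hom (ιD J M n φ) =
      ιD I M n (φ ∘ₗ Submodule.inclusion (Ideal.pow_right_mono h n)) :=
  LinearMap.congr_fun (congrArg ModuleCat.Hom.hom (NatTrans.congr_app
    (ι_colimMap (Functor.whiskerRight (NatTrans.op (Functor.whiskerRight (powLE h) idealModFunctor))
      (linearCoyoneda R (ModuleCat.{u} R))) (op (op n))) (ModuleCat.of R M))) (ModuleCat.ofHom φ)

/-- Extensionality in `D_I(M)`: no `I`-torsion. -/
theorem eq_zero_of_forall_smul [IsNoetherianRing R] {x : DT I M} {k : ℕ}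
    (h : ∀ a ∈ I ^ k, a • x = 0) : x = 0 := by
  classical
  obtain ⟨n, hkn, φ, rfl⟩ := exists_ιD_le x k
  obtain ⟨s, hs⟩ : (I ^ n).FG := IsNoetherian.noetherian _
  have hmem : ∀ a : ↥(I ^ n), φ a ∈ DRing.torsionSub I M := fun a => by
    rw [← toDT_eq_zero_iff, ← smul_ιD]
    exact h a (Ideal.pow_le_pow_right hkn a.2)
  have hmem' : ∀ a : R, a ∈ s → a ∈ I ^ n := fun a ha => hs ▸ Submodule.subset_span ha
  choose e he using fun a : {a // a ∈ s} => hmem ⟨a.1, hmem' a.1 a.2⟩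
  let m := n + Finset.univ.sup e
  refine (ιD_eq_zero_iff φ).2 ⟨m, Nat.le_add_right _ _, LinearMap.ext fun c => ?_⟩
  change φ ⟨c.1, _⟩ = 0
  obtain ⟨c, hc⟩ := c
  dsimp only
  have hc' : c ∈ I ^ (Finset.univ.sup e) * Submodule.span R (s : Set R) := by
    rw [show Submodule.span R (s : Set R) = I ^ n from hs, ← pow_add, add_comm]
    exact hc
  suffices H : ∀ c ∈ I ^ (Finset.univ.sup e) * Submodule.span R (s : Set R),
      ∀ (hn : c ∈ I ^ n), φ ⟨c, hn⟩ = 0 from H c hc' _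
  intro c hc hn
  suffices H : ∃ hn, φ ⟨c, hn⟩ = 0 by obtain ⟨hn', h'⟩ := H; exact h'
  refine Submodule.mul_induction_on hc (fun u hu v hv => ?_) ?_
  · induction hv using Submodule.span_induction with
    | mem v hv =>
      refine ⟨(I ^ n).mul_mem_left u (hmem' v hv), ?_⟩
      have : (⟨u * v, (I ^ n).mul_mem_left u (hmem' v hv)⟩ : ↥(I ^ n)) = u • ⟨v, hmem' v hv⟩ :=
        Subtype.ext rfl
      rw [this, map_smul]
      exact he ⟨v, hv⟩ u (Ideal.pow_le_pow_right (Finset.le_sup (Finset.mem_univ _)) hu)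
    | zero =>
      refine ⟨by rw [mul_zero]; exact zero_mem _, ?_⟩
      exact (congrArg φ (Subtype.ext (mul_zero u) : _ = (0 : ↥(I ^ n)))).trans (map_zero φ)
    | add v w _ _ ihv ihw =>
      obtain ⟨h1, e1⟩ := ihv
      obtain ⟨h2, e2⟩ := ihw
      refine ⟨by rw [mul_add]; exact add_mem h1 h2, ?_⟩
      refine (congrArg φ (Subtype.ext (mul_add u v w) : _ = (⟨u * v, h1⟩ + ⟨u * w, h2⟩ : ↥(I ^ n)))).trans ?_
      rw [map_add, e1, e2, add_zero]
    | smul r v _ ihv =>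
      obtain ⟨h1, e1⟩ := ihv
      refine ⟨by rw [mul_smul_comm]; exact (I ^ n).smul_mem r h1, ?_⟩
      refine (congrArg φ (Subtype.ext (mul_smul_comm r u v) : _ = (r • ⟨u * v, h1⟩ : ↥(I ^ n)))).trans ?_
      rw [map_smul, e1, smul_zero]
  · rintro x y ⟨h1, e1⟩ ⟨h2, e2⟩
    refine ⟨add_mem h1 h2, ?_⟩
    refine (congrArg φ (rfl : _ = (⟨x, h1⟩ + ⟨y, h2⟩ : ↥(I ^ n)))).trans ?_
    rw [map_add, e1, e2, add_zero]

end Groth.Agent.DTLib
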